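/-
Packed tables for type G2, generated from `Cfsg.Lie.chevG2`, with their verification.
-/
import Cfsg.Agent.Lib.Chev.Table
import Cfsg.Prelude.Def_ChevG2

set_option autoImplicit false
set_option maxRecDepth 20000
set_option linter.all false
set_option Elab.async false

namespace CfsgLib.Chev.DataG2

open Cfsg.Lie CfsgLib.Chev.Table

/-- The packed tables. -/
def tab : Tab where
  rank := 2
  nroots := 12
  simples := 0x60007
  rows := (.node 6
 (.node 3
 (.node 1
 (.leaf 0x570037002900000019000000000000000000000000)
 (.node 2
 (.leaf 0x6700000047000000290000000900000000000000000000)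
 (.leaf 0x8700770000004a003600000000001b000b000000000000)))
 (.node 4
 (.leaf 0x990000007a000000550049000000260000000500000000)
 (.node 5
 (.leaf 0x99008600650000000000390000002a001500000000)
 (.leaf 0xa900000000007900000000000000370000000000070000))))
 (.node 9
 (.node 7
 (.leaf 0xb90000000000890000000000000047000000000017)
 (.node 8
 (.leaf 0xab00960000008700000000005b003a00270000)
 (.leaf 0xbb0000009a00000077006b0000004600000027)))
 (.node 10
 (.leaf 0xb500a500000000008a0076000000490039)
 (.node 11
 (.leaf 0xb7000000970000007900000059)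
 (.leaf 0xa700000097008900690000)))))
  cart := (.node 1
 (.leaf 0x8000b00090007000a0005000b00060009000700050008)
 (.leaf 0x90007000800090007000a000600090007000800090007))
  cors := (.node 6
 (.node 3
 (.node 1
 (.leaf 0x1e001f)
 (.node 2
 (.leaf 0x1f001f)
 (.leaf 0x1d001e)))
 (.node 4
 (.leaf 0x1d001f)
 (.node 5
 (.leaf 0x20001f)
 (.leaf 0x1f0020))))
 (.node 9
 (.node 7
 (.leaf 0x210020)
 (.node 8
 (.leaf 0x200021)
 (.leaf 0x230021)))
 (.node 10
 (.leaf 0x230022)
 (.node 11
 (.leaf 0x210021)
 (.leaf 0x220021)))))
  cos := (.node 6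
 (.node 3
 (.node 1
 (.leaf 0x1e001d)
 (.node 2
 (.leaf 0x1f001d)
 (.leaf 0x1f001e)))
 (.node 4
 (.leaf 0x1f001f)
 (.node 5
 (.leaf 0x20001f)
 (.leaf 0x1f0020))))
 (.node 9
 (.node 7
 (.leaf 0x210020)
 (.node 8
 (.leaf 0x200021)
 (.leaf 0x210021)))
 (.node 10
 (.leaf 0x210022)
 (.node 11
 (.leaf 0x210023)
 (.leaf 0x220023)))))
  etas := (.node 1
 (.leaf 0x200000000000200000002000200000002000000000002)
 (.leaf 0x20002000000020000000000020000000200020000))
  off := 0x200020

theorem chk_arrays : tab.chkArrays chevG2 = true := by decide +kernel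
theorem chk_chain : tab.chkChain chevG2 = true := by decide +kernel
theorem chk_pairs : tab.chkPairs = true := by decide +kernel
theorem chk_roots : tab.chkRoots = true := by decide +kernel
theorem chk_refl : tab.chkRefl = true := by decide +kernel
theorem chk_nmat : tab.chkNMat = true := by decide +kernel
theorem chk_deriv : tab.chkDeriv = true := by decide +kernel

/-- The coefficients of the roots on the fundamental roots. -/
abbrev co : ℕ → ℕ → ℤ := tab.co

/-- The table facts for `chevG2`. -/
theorem facts : Facts chevG2 co :=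
  facts_of_chk chk_arrays chk_chain chk_pairs chk_roots chk_refl (derivZero_of_chk chk_deriv) chk_nmat

end CfsgLib.Chev.DataG2
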