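/-
Packed tables for type B2, generated from `Cfsg.Lie.chevB2`, with their verification.
-/
import Cfsg.Agent.Lib.Chev.Table
import Cfsg.Prelude.Def_ChevB2

set_option autoImplicit false
set_option maxRecDepth 20000
set_option linter.all false
set_option Elab.async false

namespace CfsgLib.Chev.DataB2

open Cfsg.Lie CfsgLib.Chev.Table

/-- The packed tables. -/
def tab : Tab where
  rank := 2
  nroots := 8
  simples := 0x40005
  rows := (.node 4
 (.node 2
 (.node 1
 (.leaf 0x27001900000000000000000000)
 (.leaf 0x570000003600290000000a00000000))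
 (.node 3
 (.leaf 0x690046000000000019000000060000)
 (.leaf 0x59000000000000001700000000)))
 (.node 6
 (.node 5
 (.leaf 0x6900000000000000270000)
 (.leaf 0x7a0000006700000000003a0017))
 (.node 7
 (.leaf 0x7600000057004a00000029)
 (.leaf 0x6700590000))))
  cart := (.node 1
 (.leaf 0xa0008000a0006000a000600080006)
 (.leaf 0x800090007000a0006000900070008))
  cors := (.node 4
 (.node 2
 (.node 1
 (.leaf 0x1f001f)
 (.leaf 0x1e001f))
 (.node 3
 (.leaf 0x20001f)
 (.leaf 0x1f0020)))
 (.node 6
 (.node 5
 (.leaf 0x210020)
 (.leaf 0x200021))
 (.node 7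
 (.leaf 0x220021)
 (.leaf 0x210021))))
  cos := (.node 4
 (.node 2
 (.node 1
 (.leaf 0x1f001e)
 (.leaf 0x1f001f))
 (.node 3
 (.leaf 0x20001f)
 (.leaf 0x1f0020)))
 (.node 6
 (.node 5
 (.leaf 0x210020)
 (.leaf 0x200021))
 (.node 7
 (.leaf 0x210021)
 (.leaf 0x210022))))
  etas := (.node 1
 (.leaf 0x0)
 (.leaf 0x20000000200000000000200000002))
  off := 0x200020

theorem chk_arrays : tab.chkArrays chevB2 = true := by decide +kernel
theorem chk_chain : tab.chkChain chevB2 = true := by decide +kernel
theorem chk_pairs : tab.chkPairs = true := by decide +kernel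
theorem chk_roots : tab.chkRoots = true := by decide +kernel
theorem chk_refl : tab.chkRefl = true := by decide +kernel
theorem chk_nmat : tab.chkNMat = true := by decide +kernel
theorem chk_deriv : tab.chkDeriv = true := by decide +kernel
theorem chk_short : tab.chkShort = true := by decide +kernel

/-- The coefficients of the roots on the fundamental roots. -/
abbrev co : ℕ → ℕ → ℤ := tab.co

/-- The table facts for `chevB2`. -/
theorem facts : Facts chevB2 co :=
  facts_of_chk chk_arrays chk_chain chk_pairs chk_roots chk_refl (derivZero_of_chk chk_deriv) chk_nmat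

/-- Short chains in `chevB2`. -/
theorem short : ShortChains chevB2 := short_of_chk chk_arrays chk_chain chk_pairs chk_short

end CfsgLib.Chev.DataB2
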