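/-
The table facts for type E8, generated from `Cfsg.Lie.chevE8`.
-/
import Cfsg.Agent.Lib.Chev.Data.E8.Tab
import Cfsg.Agent.Lib.Chev.Data.E8.Chain
import Cfsg.Agent.Lib.Chev.Data.E8.Roots
import Cfsg.Agent.Lib.Chev.Data.E8.Refl
import Cfsg.Agent.Lib.Chev.Data.E8.NMat
import Cfsg.Agent.Lib.Chev.Data.E8.Laced

set_option autoImplicit false
set_option maxRecDepth 20000
set_option linter.all false

namespace CfsgLib.Chev.DataE8

open Cfsg.Lie CfsgLib.Chev.Table

/-- The coefficients of the roots on the fundamental roots. -/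
abbrev co : ℕ → ℕ → ℤ := tab.co

/-- The table facts for `chevE8`. -/
theorem facts : Facts chevE8 co :=
  facts_of_chk chk_arrays chk_chain chk_pairs chk_roots chk_refl
    (derivZero_laced chk_arrays chk_pairs chk_roots chk_laced_roots laced_pairs) chk_nmat

/-- Short chains in `chevE8`. -/
theorem short : ShortChains chevE8 := short_of_chk chk_arrays chk_chain chk_pairs chk_short

end CfsgLib.Chev.DataE8
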