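/-
Smith normal forms of the Cartan matrices of the tabulated data.
-/
import Cfsg.Agent.Lib.Chev.Torus
import Cfsg.Agent.Lib.Chev.All

set_option autoImplicit false
set_option Elab.async false
set_option maxRecDepth 20000

namespace CfsgLib.Chev

open Cfsg.Lie

/-- The Cartan matrix of type G2 has invariant factors `[1, 1]`. -/
theorem smith_G2 {F : Type*} [Field F] [Finite F] :
    Nat.card ↥(chevG2.diagonalSubgroup F) * ∏ i, (Nat.card F - 1).gcd ((![1, 1] : Fin 2 → ℕ) i) =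
      (Nat.card F - 1) ^ 2 :=
  DataG2.facts.card_diagonal_smith (D := chevG2)
    (P := (!![-1, 0; 2, 1] : Matrix (Fin 2) (Fin 2) ℤ))
    (P' := (!![-1, 0; 2, 1] : Matrix (Fin 2) (Fin 2) ℤ))
    (Q := (!![0, 1; 1, 2] : Matrix (Fin 2) (Fin 2) ℤ))
    (Q' := (!![-2, 1; 1, 0] : Matrix (Fin 2) (Fin 2) ℤ))
    (![1, 1] : Fin 2 → ℕ) (by decide +kernel) (by decide +kernel) (by decide +kernel)
    (by decide +kernel)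

/-- The Cartan matrix of type B2 has invariant factors `[1, 2]`. -/
theorem smith_B2 {F : Type*} [Field F] [Finite F] :
    Nat.card ↥(chevB2.diagonalSubgroup F) * ∏ i, (Nat.card F - 1).gcd ((![1, 2] : Fin 2 → ℕ) i) =
      (Nat.card F - 1) ^ 2 :=
  DataB2.facts.card_diagonal_smith (D := chevB2)
    (P := (!![-1, 0; 2, 1] : Matrix (Fin 2) (Fin 2) ℤ))
    (P' := (!![-1, 0; 2, 1] : Matrix (Fin 2) (Fin 2) ℤ))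
    (Q := (!![0, 1; 1, 2] : Matrix (Fin 2) (Fin 2) ℤ))
    (Q' := (!![-2, 1; 1, 0] : Matrix (Fin 2) (Fin 2) ℤ))
    (![1, 2] : Fin 2 → ℕ) (by decide +kernel) (by decide +kernel) (by decide +kernel)
    (by decide +kernel)

/-- The Cartan matrix of type D4 has invariant factors `[1, 1, 2, 2]`. -/
theorem smith_D4 {F : Type*} [Field F] [Finite F] :
    Nat.card ↥(chevD4.diagonalSubgroup F) * ∏ i, (Nat.card F - 1).gcd ((![1, 1, 2, 2] : Fin 4 → ℕ) i) =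
      (Nat.card F - 1) ^ 4 :=
  DataD4.facts.card_diagonal_smith (D := chevD4)
    (P := (!![-1, 0, 0, 0; -2, -1, 0, 0; -3, -2, -1, 0; 2, 2, 1, 1] : Matrix (Fin 4) (Fin 4) ℤ))
    (P' := (!![-1, 0, 0, 0; 2, -1, 0, 0; -1, 2, -1, 0; -1, 0, 1, 1] : Matrix (Fin 4) (Fin 4) ℤ))
    (Q := (!![0, 0, 0, 1; 1, 0, 0, 2; 0, 1, -1, 1; 0, 0, 1, 2] : Matrix (Fin 4) (Fin 4) ℤ))
    (Q' := (!![-2, 1, 0, 0; -3, 0, 1, 1; -2, 0, 0, 1; 1, 0, 0, 0] : Matrix (Fin 4) (Fin 4) ℤ))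
    (![1, 1, 2, 2] : Fin 4 → ℕ) (by decide +kernel) (by decide +kernel) (by decide +kernel)
    (by decide +kernel)

/-- The Cartan matrix of type F4 has invariant factors `[1, 1, 1, 1]`. -/
theorem smith_F4 {F : Type*} [Field F] [Finite F] :
    Nat.card ↥(chevF4.diagonalSubgroup F) * ∏ i, (Nat.card F - 1).gcd ((![1, 1, 1, 1] : Fin 4 → ℕ) i) =
      (Nat.card F - 1) ^ 4 :=
  DataF4.facts.card_diagonal_smith (D := chevF4)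
    (P := (!![-1, 0, 0, 0; -2, -1, 0, 0; -2, -2, -1, 0; 2, 3, 2, 1] : Matrix (Fin 4) (Fin 4) ℤ))
    (P' := (!![-1, 0, 0, 0; 2, -1, 0, 0; -2, 2, -1, 0; 0, -1, 2, 1] : Matrix (Fin 4) (Fin 4) ℤ))
    (Q := (!![0, 0, 0, 1; 1, 0, 0, 2; 0, 1, 0, 3; 0, 0, 1, 2] : Matrix (Fin 4) (Fin 4) ℤ))
    (Q' := (!![-2, 1, 0, 0; -3, 0, 1, 0; -2, 0, 0, 1; 1, 0, 0, 0] : Matrix (Fin 4) (Fin 4) ℤ))
    (![1, 1, 1, 1] : Fin 4 → ℕ) (by decide +kernel) (by decide +kernel) (by decide +kernel)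
    (by decide +kernel)

/-- The Cartan matrix of type E6 has invariant factors `[1, 1, 1, 1, 1, 3]`. -/
theorem smith_E6 {F : Type*} [Field F] [Finite F] :
    Nat.card ↥(chevE6.diagonalSubgroup F) * ∏ i, (Nat.card F - 1).gcd ((![1, 1, 1, 1, 1, 3] : Fin 6 → ℕ) i) =
      (Nat.card F - 1) ^ 6 :=
  DataE6.facts.card_diagonal_smith (D := chevE6)
    (P := (!![-1, 0, 0, 0, 0, 0; 0, -1, 0, 0, 0, 0; 1, -2, 0, -1, 0, 0; 2, -3, 0, -2, -1, 0; -2, 1, -1, 0, 0, 0; -5, 0, -4, -3, -2, -1] : Matrix (Fin 6) (Fin 6) ℤ))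
    (P' := (!![-1, 0, 0, 0, 0, 0; 0, -1, 0, 0, 0, 0; 2, -1, 0, 0, -1, 0; -1, 2, -1, 0, 0, 0; 0, -1, 2, -1, 0, 0; 0, 0, -1, 2, 4, -1] : Matrix (Fin 6) (Fin 6) ℤ))
    (Q := (!![0, 0, 0, 0, 1, -2; 0, 0, 0, 0, 2, -3; 1, 0, 0, 0, 2, -4; 0, 1, 0, 0, 4, -6; 0, 0, 1, 0, 4, -5; 0, 0, 0, 1, 4, -4] : Matrix (Fin 6) (Fin 6) ℤ))
    (Q' := (!![-2, 0, 1, 0, 0, 0; 0, -2, 0, 1, 0, 0; 2, -3, 0, 0, 1, 0; 4, -4, 0, 0, 0, 1; -3, 2, 0, 0, 0, 0; -2, 1, 0, 0, 0, 0] : Matrix (Fin 6) (Fin 6) ℤ))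
    (![1, 1, 1, 1, 1, 3] : Fin 6 → ℕ) (by decide +kernel) (by decide +kernel) (by decide +kernel)
    (by decide +kernel)

/-- The Cartan matrix of type E7 has invariant factors `[1, 1, 1, 1, 1, 1, 2]`. -/
theorem smith_E7 {F : Type*} [Field F] [Finite F] :
    Nat.card ↥(chevE7.diagonalSubgroup F) * ∏ i, (Nat.card F - 1).gcd ((![1, 1, 1, 1, 1, 1, 2] : Fin 7 → ℕ) i) =
      (Nat.card F - 1) ^ 7 :=
  DataE7.facts.card_diagonal_smith (D := chevE7)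
    (P := (!![-1, 0, 0, 0, 0, 0, 0; 0, -1, 0, 0, 0, 0, 0; 1, -2, 0, -1, 0, 0, 0; 2, -3, 0, -2, -1, 0, 0; 3, -4, 0, -3, -2, -1, 0; -2, 1, -1, 0, 0, 0, 0; -4, -1, -4, -4, -3, -2, -1] : Matrix (Fin 7) (Fin 7) ℤ))
    (P' := (!![-1, 0, 0, 0, 0, 0, 0; 0, -1, 0, 0, 0, 0, 0; 2, -1, 0, 0, 0, -1, 0; -1, 2, -1, 0, 0, 0, 0; 0, -1, 2, -1, 0, 0, 0; 0, 0, -1, 2, -1, 0, 0; 0, 0, 0, -1, 2, 4, -1] : Matrix (Fin 7) (Fin 7) ℤ))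
    (Q := (!![0, 0, 0, 0, 0, 1, -2; 0, 0, 0, 0, 0, 2, -3; 1, 0, 0, 0, 0, 2, -4; 0, 1, 0, 0, 0, 4, -6; 0, 0, 1, 0, 0, 4, -5; 0, 0, 0, 1, 0, 4, -4; 0, 0, 0, 0, 1, 4, -3] : Matrix (Fin 7) (Fin 7) ℤ))
    (Q' := (!![-2, 0, 1, 0, 0, 0, 0; 0, -2, 0, 1, 0, 0, 0; 2, -3, 0, 0, 1, 0, 0; 4, -4, 0, 0, 0, 1, 0; 6, -5, 0, 0, 0, 0, 1; -3, 2, 0, 0, 0, 0, 0; -2, 1, 0, 0, 0, 0, 0] : Matrix (Fin 7) (Fin 7) ℤ))
    (![1, 1, 1, 1, 1, 1, 2] : Fin 7 → ℕ) (by decide +kernel) (by decide +kernel) (by decide +kernel)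
    (by decide +kernel)

/-- The Cartan matrix of type E8 has invariant factors `[1, 1, 1, 1, 1, 1, 1, 1]`. -/
theorem smith_E8 {F : Type*} [Field F] [Finite F] :
    Nat.card ↥(chevE8.diagonalSubgroup F) * ∏ i, (Nat.card F - 1).gcd ((![1, 1, 1, 1, 1, 1, 1, 1] : Fin 8 → ℕ) i) =
      (Nat.card F - 1) ^ 8 :=
  DataE8.facts.card_diagonal_smith (D := chevE8)
    (P := (!![-1, 0, 0, 0, 0, 0, 0, 0; 0, -1, 0, 0, 0, 0, 0, 0; 1, -2, 0, -1, 0, 0, 0, 0; 2, -3, 0, -2, -1, 0, 0, 0; 3, -4, 0, -3, -2, -1, 0, 0; 4, -5, 0, -4, -3, -2, -1, 0; -2, 1, -1, 0, 0, 0, 0, 0; -3, -2, -4, -5, -4, -3, -2, -1] : Matrix (Fin 8) (Fin 8) ℤ))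
    (P' := (!![-1, 0, 0, 0, 0, 0, 0, 0; 0, -1, 0, 0, 0, 0, 0, 0; 2, -1, 0, 0, 0, 0, -1, 0; -1, 2, -1, 0, 0, 0, 0, 0; 0, -1, 2, -1, 0, 0, 0, 0; 0, 0, -1, 2, -1, 0, 0, 0; 0, 0, 0, -1, 2, -1, 0, 0; 0, 0, 0, 0, -1, 2, 4, -1] : Matrix (Fin 8) (Fin 8) ℤ))
    (Q := (!![0, 0, 0, 0, 0, 0, 1, -2; 0, 0, 0, 0, 0, 0, 2, -3; 1, 0, 0, 0, 0, 0, 2, -4; 0, 1, 0, 0, 0, 0, 4, -6; 0, 0, 1, 0, 0, 0, 4, -5; 0, 0, 0, 1, 0, 0, 4, -4; 0, 0, 0, 0, 1, 0, 4, -3; 0, 0, 0, 0, 0, 1, 4, -2] : Matrix (Fin 8) (Fin 8) ℤ))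
    (Q' := (!![-2, 0, 1, 0, 0, 0, 0, 0; 0, -2, 0, 1, 0, 0, 0, 0; 2, -3, 0, 0, 1, 0, 0, 0; 4, -4, 0, 0, 0, 1, 0, 0; 6, -5, 0, 0, 0, 0, 1, 0; 8, -6, 0, 0, 0, 0, 0, 1; -3, 2, 0, 0, 0, 0, 0, 0; -2, 1, 0, 0, 0, 0, 0, 0] : Matrix (Fin 8) (Fin 8) ℤ))
    (![1, 1, 1, 1, 1, 1, 1, 1] : Fin 8 → ℕ) (by decide +kernel) (by decide +kernel) (by decide +kernel)
    (by decide +kernel)

end CfsgLib.Chev
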