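/-
Coset representatives along a chain in the Weyl group of type D4, generated from `Cfsg.Lie.chevD4`,
with their verification and the resulting Poincaré polynomial.
-/
import Cfsg.Agent.Lib.Chev.Poincare
import Cfsg.Agent.Lib.Chev.Data.D4

set_option autoImplicit false
set_option maxRecDepth 20000
set_option linter.all false
set_option Elab.async false

namespace CfsgLib.Chev.DataD4

open Cfsg.Lie CfsgLib.Chev.Table

/-- Step 0 of the chain. -/
def lev0 : Level where
  size := 2
  rows := (.node 1
 (.leaf 0x170016001500140013001200110010000f000e000d000c)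
 (.leaf 0x1700110010000f000e00050016001500140013000d000c))
  par := (.node 1
 (.leaf 0)
 (.leaf 0))
  nb := (.node 1
 (.leaf 0x2)
 (.leaf 0x0))
  key := (.node 1
 (.leaf 0x12000e000d000c)
 (.leaf 0x50013000d000c))
  len := (.node 1
 (.leaf 0)
 (.leaf 1))

theorem lev0_chk : lev0.check tab 0 = true := by decide +kernel

/-- Step 1 of the chain. -/
def lev1 : Level where
  size := 3
  rows := (.node 1
 (.leaf 0x170016001500140013001200110010000f000e000d000c)
 (.node 2
 (.leaf 0x16001700150014001200130011000d000c00090010000f)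
 (.leaf 0x1100170010000f0005000e0016000d000c000400150014)))
  par := (.node 1
 (.leaf 0)
 (.node 2
 (.leaf 1)
 (.leaf 16)))
  nb := (.node 1
 (.leaf 0x20001)
 (.node 2
 (.leaf 0x4)
 (.leaf 0x10002)))
  key := (.node 1
 (.leaf 0x12000e000d000c)
 (.node 2
 (.leaf 0x1300090010000f)
 (.leaf 0xe000400150014)))
  len := (.node 1
 (.leaf 0)
 (.node 2
 (.leaf 1)
 (.leaf 2)))

theorem lev1_chk : lev1.check tab 1 = true := by decide +kernel

/-- Step 2 of the chain. -/
def lev2 : Level where
  size := 4
  rows := (.node 2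
 (.node 1
 (.leaf 0x170016001500140013001200110010000f000e000d000c)
 (.leaf 0x1700140013001600150012000f000e00110010000a000c))
 (.node 3
 (.leaf 0x1600140012001700150013000c00090011000d0007000f)
 (.leaf 0x11000f000500170010000e000c00040016000d00020014)))
  par := (.node 2
 (.node 1
 (.leaf 0)
 (.leaf 2))
 (.node 3
 (.leaf 17)
 (.leaf 32)))
  nb := (.node 2
 (.node 1
 (.leaf 0x200030001)
 (.leaf 0x40001))
 (.node 3
 (.leaf 0x300020006)
 (.leaf 0x300010004)))
  key := (.node 2
 (.node 1
 (.leaf 0x12000e000d000c)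
 (.leaf 0x120010000a000c))
 (.node 3
 (.leaf 0x13000d0007000f)
 (.leaf 0xe000d00020014)))
  len := (.node 2
 (.node 1
 (.leaf 0)
 (.leaf 1))
 (.node 3
 (.leaf 2)
 (.leaf 3)))

theorem lev2_chk : lev2.check tab 2 = true := by decide +kernel

/-- Step 3 of the chain. -/
def lev3 : Level where
  size := 8
  rows := (.node 4
 (.node 2
 (.node 1
 (.leaf 0x170016001500140013001200110010000f000e000d000c)
 (.leaf 0x170015001600130014001200100011000e000f000d000b))
 (.node 3
 (.leaf 0x1600150017001200140013000d00110009000c00100008)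
 (.leaf 0x11001000170005000f000e000d00160004000c00150003)))
 (.node 6
 (.node 5
 (.leaf 0x1400130017001200160015000a000f0007000c000e0006)
 (.leaf 0xf000e0017000500110010000a00140002000c00130001))
 (.node 7
 (.leaf 0xc0009001600040011000d000700140002000f00120000)
 (.leaf 0xb0008001500030010000d000600130001000e00120000))))
  par := (.node 4
 (.node 2
 (.node 1
 (.leaf 0)
 (.leaf 3))
 (.node 3
 (.leaf 17)
 (.leaf 32)))
 (.node 6
 (.node 5
 (.leaf 34)
 (.leaf 50))
 (.node 7
 (.leaf 81)
 (.leaf 99))))
  nb := (.node 4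
 (.node 2
 (.node 1
 (.leaf 0x2000500030001)
 (.leaf 0x500040001))
 (.node 3
 (.leaf 0x3000800020006)
 (.leaf 0x3000a00010004)))
 (.node 6
 (.node 5
 (.leaf 0x300040005000a)
 (.leaf 0x30006000c0008))
 (.node 7
 (.leaf 0xe0001000a0005)
 (.leaf 0xc000100030005))))
  key := (.node 4
 (.node 2
 (.node 1
 (.leaf 0x12000e000d000c)
 (.leaf 0x12000f000d000b))
 (.node 3
 (.leaf 0x13000c00100008)
 (.leaf 0xe000c00150003)))
 (.node 6
 (.node 5
 (.leaf 0x15000c000e0006)
 (.leaf 0x10000c00130001))
 (.node 7
 (.leaf 0xd000f00120000)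
 (.leaf 0xd000e00120000))))
  len := (.node 4
 (.node 2
 (.node 1
 (.leaf 0)
 (.leaf 1))
 (.node 3
 (.leaf 2)
 (.leaf 3)))
 (.node 6
 (.node 5
 (.leaf 3)
 (.leaf 4))
 (.node 7
 (.leaf 5)
 (.leaf 6))))

theorem lev3_chk : lev3.check tab 3 = true := by decide +kernel

/-- The chain. -/
def levels : List Level := [lev0, lev1, lev2, lev3]

theorem levels_chk : ∀ k (h : k < levels.length), (levels[k]).check tab k = true
  | 0, _ => lev0_chk
  | 1, _ => lev1_chk
  | 2, _ => lev2_chk
  | 3, _ => lev3_chk
  | _ + 4, h => absurd h (by simp [levels])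

theorem weyl_poincare :
    (∀ x : ℤ, (∑ σ ∈ wFin chevD4 chevD4.rank, x ^ flipNum σ) * (x - 1) ^ chevD4.rank =
      (([2, 4, 4, 6] : List ℕ).map fun d => x ^ d - 1).prod) ∧
      (wFin chevD4 chevD4.rank).card = 192 := by
  have h := poincare_of_check chk_arrays chk_chain facts (Ls := levels)
    (degs := [2, 4, 4, 6]) (by decide +kernel) levels_chk (by decide +kernel)
  refine ⟨h.1, h.2.trans ?_⟩
  decide +kernel

end CfsgLib.Chev.DataD4
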