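/-
Coset representatives along a chain in the Weyl group of type G2, generated from `Cfsg.Lie.chevG2`,
with their verification and the resulting Poincaré polynomial.
-/
import Cfsg.Agent.Lib.Chev.Poincare
import Cfsg.Agent.Lib.Chev.Data.G2

set_option autoImplicit false
set_option maxRecDepth 20000
set_option linter.all false
set_option Elab.async false

namespace CfsgLib.Chev.DataG2

open Cfsg.Lie CfsgLib.Chev.Table

/-- Step 0 of the chain. -/
def lev0 : Level where
  size := 2
  rows := (.node 1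
 (.leaf 0xb000a0009000800070006)
 (.leaf 0xb0006000800090004000a))
  par := (.node 1
 (.leaf 0)
 (.leaf 0))
  nb := (.node 1
 (.leaf 0x2)
 (.leaf 0x0))
  key := (.node 1
 (.leaf 0x70006)
 (.leaf 0x4000a))
  len := (.node 1
 (.leaf 0)
 (.leaf 1))

theorem lev0_chk : lev0.check tab 0 = true := by decide +kernel

/-- Step 1 of the chain. -/
def lev1 : Level where
  size := 6
  rows := (.node 3
 (.node 1
 (.leaf 0xb000a0009000800070006)
 (.node 2
 (.leaf 0xa000b0009000700080005)
 (.leaf 0x6000b0008000400090001)))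
 (.node 4
 (.leaf 0x5000a0007000300090000)
 (.node 5
 (.leaf 0x100060004000200080000)
 (.leaf 0x50003000200070001))))
  par := (.node 3
 (.node 1
 (.leaf 0)
 (.node 2
 (.leaf 1)
 (.leaf 16)))
 (.node 4
 (.leaf 33)
 (.node 5
 (.leaf 48)
 (.leaf 65))))
  nb := (.node 3
 (.node 1
 (.leaf 0x20001)
 (.node 2
 (.leaf 0x4)
 (.leaf 0x60002)))
 (.node 4
 (.leaf 0x40008)
 (.node 5
 (.leaf 0xa0006)
 (.leaf 0x80001))))
  key := (.node 3
 (.node 1
 (.leaf 0x70006)
 (.node 2
 (.leaf 0x80005)
 (.leaf 0x90001)))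
 (.node 4
 (.leaf 0x90000)
 (.node 5
 (.leaf 0x80000)
 (.leaf 0x70001))))
  len := (.node 3
 (.node 1
 (.leaf 0)
 (.node 2
 (.leaf 1)
 (.leaf 2)))
 (.node 4
 (.leaf 3)
 (.node 5
 (.leaf 4)
 (.leaf 5))))

theorem lev1_chk : lev1.check tab 1 = true := by decide +kernel

/-- The chain. -/
def levels : List Level := [lev0, lev1]

theorem levels_chk : ∀ k (h : k < levels.length), (levels[k]).check tab k = true
  | 0, _ => lev0_chk
  | 1, _ => lev1_chk
  | _ + 2, h => absurd h (by simp [levels])

theorem weyl_poincare :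
    (∀ x : ℤ, (∑ σ ∈ wFin chevG2 chevG2.rank, x ^ flipNum σ) * (x - 1) ^ chevG2.rank =
      (([2, 6] : List ℕ).map fun d => x ^ d - 1).prod) ∧
      (wFin chevG2 chevG2.rank).card = 12 := by
  have h := poincare_of_check chk_arrays chk_chain facts (Ls := levels)
    (degs := [2, 6]) (by decide +kernel) levels_chk (by decide +kernel)
  refine ⟨h.1, h.2.trans ?_⟩
  decide +kernel

end CfsgLib.Chev.DataG2
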